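import Mathlib.RingTheory.Derivation.Basic
import Mathlib.Algebra.MvPolynomial.Derivation
import Mathlib.Algebra.MvPolynomial.Rename
import Mathlib.Algebra.CharP.Basic
import Mathlib.Algebra.Field.ZMod
import Mathlib.Data.Nat.Choose.Sum
import Mathlib.Data.Nat.Choose.Dvd
import Mathlib.Algebra.CharP.Algebra
import Mathlib.Tactic.LinearCombination

/-!
# Hochschild's formula `(bD)^p = b^p D^p + c D` for operators over a derivation in characteristic `p`
-/

set_option autoImplicit false

open Finset

namespace Groth.Agent.Hochschild5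

variable {B M : Type*} [CommRing B] [AddCommGroup M] [Module B M]

/-- `D` is semilinear over the derivation-like map `δ`. -/
def Semi (δ : B → B) (D : M → M) : Prop :=
  (∀ m m', D (m + m') = D m + D m') ∧ ∀ (c : B) m, D (c • m) = δ c • m + c • D m

theorem Semi.map_zero {δ : B → B} {D : M → M} (h : Semi δ D) : D 0 = 0 := by
  simpa using h.1 0 0

/-- `Semi` as an additive map. -/
def Semi.hom {δ : B → B} {D : M → M} (h : Semi δ D) : M →+ M where
  toFun := D
  map_zero' := h.map_zero
  map_add' := h.1

theorem Semi.iterate_smul {δ : B → B} {D : M → M} (h : Semi δ D) (n : ℕ) (c : B) (m : M) :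
    D^[n] (c • m) = ∑ ij ∈ antidiagonal n, n.choose ij.1 • (δ^[ij.1] c • D^[ij.2] m) := by
  induction n with
  | zero => simp
  | succ n ih =>
    rw [Function.iterate_succ_apply', ih, Finset.sum_antidiagonal_choose_succ_nsmul
      (fun i j => δ^[i] c • D^[j] m) n]
    show h.hom _ = _
    rw [map_sum, ← Finset.sum_add_distrib]
    refine Finset.sum_congr rfl fun ij _ => ?_
    rw [map_nsmul]
    show _ • D _ = _
    rw [h.2, ← Function.iterate_succ_apply' δ, ← Function.iterate_succ_apply' D, nsmul_add, add_comm]
    congr 1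
    rw [Nat.choose_symm_of_eq_add (mem_antidiagonal.1 ‹_›).symm]

theorem Semi.iterate_prime {δ : B → B} {D : M → M} (h : Semi δ D) (p : ℕ) [Fact p.Prime] [CharP B p]
    (c : B) (m : M) : D^[p] (c • m) = c • D^[p] m + δ^[p] c • m := by
  rw [h.iterate_smul, ← Finset.sum_subset (s₁ := ({(0, p), (p, 0)} : Finset (ℕ × ℕ)))]
  · rw [Finset.sum_pair (by simp [(Fact.out : p.Prime).ne_zero.symm])]
    simp
  · intro x hx
    simp only [mem_insert, mem_singleton] at hx
    rcases hx with rfl | rfl <;> simp
  · intro x hx hx'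
    simp only [mem_insert, mem_singleton, Prod.ext_iff, not_or] at hx'
    rw [mem_antidiagonal] at hx
    have : (p.choose x.1 : B) = 0 := (CharP.cast_eq_zero_iff B p _).2
      ((Fact.out : p.Prime).dvd_choose_self (by omega) (by omega))
    rw [← Nat.cast_smul_eq_nsmul B, this, zero_smul]

/-- The coefficients of `(bD)^n`. -/
def coef (δ : B → B) (b : B) : ℕ → ℕ → B
  | 0, k => if k = 0 then 1 else 0
  | n + 1, 0 => b * δ (coef δ b n 0)
  | n + 1, k + 1 => b * (δ (coef δ b n (k + 1)) + coef δ b n k)

theorem coef_map {B' : Type*} [CommRing B'] (f : B →+* B') (δ : B → B) (δ' : B' → B')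
    (hf : ∀ x, f (δ x) = δ' (f x)) (b : B) : ∀ n k, f (coef δ b n k) = coef δ' (f b) n k
  | 0, k => by simp only [coef]; split_ifs <;> simp
  | n + 1, 0 => by simp only [coef, map_mul, hf, coef_map f δ δ' hf b n 0]
  | n + 1, k + 1 => by
    simp only [coef, map_mul, map_add, hf, coef_map f δ δ' hf b n k, coef_map f δ δ' hf b n (k + 1)]

variable {A : Type*} [CommRing A] [Algebra A B] (δ : Derivation A B B) (b : B)

theorem coef_succ_zero : ∀ n, coef δ b (n + 1) 0 = 0
  | 0 => by simp [coef]
  | n + 1 => by
    show b * δ (coef δ b (n + 1) 0) = 0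
    rw [coef_succ_zero n]
    simp

theorem coef_eq_zero : ∀ n k, n < k → coef δ b n k = 0
  | 0, k, h => by simp only [coef]; rw [if_neg (by omega)]
  | n + 1, 0, h => by omega
  | n + 1, k + 1, h => by
    simp only [coef, coef_eq_zero n k (by omega), coef_eq_zero n (k + 1) (by omega)]
    simp

theorem coef_self : ∀ n, coef δ b n n = b ^ n
  | 0 => by simp [coef]
  | n + 1 => by
    simp only [coef, coef_self n, coef_eq_zero δ b n (n + 1) (by omega)]
    simp [pow_succ']

theorem iterate_eq_sum {D : M → M} (h : Semi (⇑δ) D) (n : ℕ) (m : M) :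
    (fun x => b • D x)^[n] m = ∑ k ∈ range (n + 1), coef δ b n k • D^[k] m := by
  induction n with
  | zero => simp [coef]
  | succ n ih =>
    rw [Function.iterate_succ_apply', ih]
    show b • h.hom _ = _
    rw [map_sum, Finset.smul_sum, Finset.sum_range_succ' _ (n + 1)]
    have key : ∀ k, b • h.hom (coef δ b n k • D^[k] m) =
        (b * δ (coef δ b n k)) • D^[k] m + (b * coef δ b n k) • D^[k + 1] m := by
      intro k
      show b • D _ = _
      rw [h.2, smul_add, smul_smul, smul_smul, Function.iterate_succ_apply' D]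
    simp only [key, Finset.sum_add_distrib]
    have e1 : ∑ k ∈ range (n + 1), (b * δ (coef δ b n k)) • D^[k] m =
        ∑ k ∈ range (n + 1), (b * δ (coef δ b n (k + 1))) • D^[k + 1] m + (b * δ (coef δ b n 0)) • D^[0] m := by
      rw [← Finset.sum_range_succ' (fun k => (b * δ (coef δ b n k)) • D^[k] m), Finset.sum_range_succ _ (n + 1),
        coef_eq_zero δ b n (n + 1) (by omega)]
      simp
    rw [e1]
    simp only [coef, mul_add, add_smul, Finset.sum_add_distrib]
    abel

theorem semi_self : Semi (⇑δ) (⇑δ) :=
  ⟨fun _ _ => map_add _ _ _, fun c m => by simp only [smul_eq_mul, Derivation.leibniz]; ring⟩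

/-- The `p`-th iterate of a derivation in characteristic `p`. -/
def iterDer (p : ℕ) [Fact p.Prime] [CharP B p] : Derivation A B B :=
  Derivation.mk' ((δ : B →ₗ[A] B) ^ p) fun x y => by
    simp only [Module.End.pow_apply]
    show (⇑δ)^[p] (x * y) = x • (⇑δ)^[p] y + y • (⇑δ)^[p] x
    rw [← smul_eq_mul, (semi_self δ).iterate_prime p, smul_eq_mul, smul_eq_mul, smul_eq_mul, mul_comm y]

theorem iterDer_apply (p : ℕ) [Fact p.Prime] [CharP B p] (x : B) : iterDer δ p x = (⇑δ)^[p] x := by
  show ((δ : B →ₗ[A] B) ^ p) x = _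
  rw [Module.End.pow_apply]
  rfl

open MvPolynomial

/-- The universal derivation: `some i ↦ some (i + 1)`, `none ↦ 1`. -/
noncomputable def univDer (p : ℕ) :
    Derivation (ZMod p) (MvPolynomial (Option ℕ) (ZMod p)) (MvPolynomial (Option ℕ) (ZMod p)) :=
  mkDerivation _ fun o => o.elim 1 fun i => X (some (i + 1))

/-- The universal derivation: `i ↦ i + 1`. -/
noncomputable def univDer₀ (p : ℕ) : Derivation (ZMod p) (MvPolynomial ℕ (ZMod p)) (MvPolynomial ℕ (ZMod p)) :=
  mkDerivation _ fun i => X (i + 1)

theorem coef_univ (p : ℕ) [hp : Fact p.Prime] : ∀ j, 2 ≤ j → j < p →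
    coef (univDer₀ p) (X 0) p j = 0 := by
  have hp0 : p ≠ 0 := hp.out.ne_zero
  have : CharP (MvPolynomial (Option ℕ) (ZMod p)) p :=
    charP_of_injective_algebraMap (MvPolynomial.C_injective (Option ℕ) (ZMod p)) p
  let δ := univDer p
  let x : MvPolynomial (Option ℕ) (ZMod p) := X (some 0)
  let y : MvPolynomial (Option ℕ) (ZMod p) := X none
  have hδy : δ y = 1 := by simp [δ, y, univDer]
  have hiter : ∀ j k, (⇑δ)^[k] (y ^ j) = (j.descFactorial k : MvPolynomial (Option ℕ) (ZMod p)) * y ^ (j - k) := by
    intro j k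
    induction k with
    | zero => simp
    | succ k ih =>
      rw [Function.iterate_succ_apply', ih, Derivation.leibniz, Derivation.map_natCast, Derivation.leibniz_pow,
        hδy, Nat.descFactorial_succ, Nat.cast_mul, show j - (k + 1) = j - k - 1 by omega]
      simp only [smul_eq_mul, mul_zero, add_zero, nsmul_eq_mul, mul_one]
      ring
  have e0 : ∀ z, (fun w => x • δ w)^[p] z =
      ∑ k ∈ range (p + 1), coef δ x p k * (⇑δ)^[k] z := fun z => iterate_eq_sum δ x (semi_self δ) p z
  let E := iterDer (x • δ) p
  have hE : ∀ z, E z = ∑ k ∈ range (p + 1), coef δ x p k * (⇑δ)^[k] z := fun z => by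
    rw [iterDer_apply]; exact e0 z
  have c0 : coef δ x p 0 = 0 := by
    obtain ⟨q, rfl⟩ : ∃ q, p = q + 1 := ⟨p - 1, by omega⟩
    exact coef_succ_zero δ x q
  have hEy : E y = coef δ x p 1 := by
    rw [hE, Finset.sum_eq_single 1]
    · simp [hδy]
    · intro k _ hk
      rcases k with _ | _ | k
      · rw [c0, zero_mul]
      · exact absurd rfl hk
      · have := hiter 1 (k + 2)
        rw [pow_one, Nat.descFactorial_of_lt (by omega)] at this
        rw [this]; simp
    · intro h; simp only [mem_range] at h; omega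
  have main : ∀ j, 2 ≤ j → j < p → coef δ x p j = 0 := by
    intro j
    induction j using Nat.strong_induction_on with
    | _ j ih =>
      intro h2 hj
      have h1 : E (y ^ j) = (j : MvPolynomial (Option ℕ) (ZMod p)) * y ^ (j - 1) * coef δ x p 1 := by
        rw [Derivation.leibniz_pow, hEy, nsmul_eq_mul, smul_eq_mul, mul_assoc]
      rw [hE, ← Finset.sum_subset (s₁ := ({1, j} : Finset ℕ)) (by
        intro k; simp only [mem_insert, mem_singleton, mem_range]; omega) (by
        intro k _ hk'
        simp only [mem_insert, mem_singleton, not_or] at hk'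
        rw [hiter]
        rcases Nat.eq_zero_or_pos k with rfl | hk0
        · rw [c0, zero_mul]
        · rcases lt_or_ge k j with h | h
          · rw [ih k h (by omega) (by omega), zero_mul]
          · rw [Nat.descFactorial_of_lt (by omega)]; simp), Finset.sum_pair (by omega), hiter, hiter,
        Nat.descFactorial_one, Nat.descFactorial_self, Nat.sub_self, pow_zero, mul_one] at h1
      have h3 : coef δ x p j * (j.factorial : MvPolynomial (Option ℕ) (ZMod p)) = 0 := by linear_combination h1
      have h4 : (j.factorial : MvPolynomial (Option ℕ) (ZMod p)) ≠ 0 := by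
        rw [Ne, CharP.cast_eq_zero_iff _ p, hp.out.dvd_factorial]; omega
      exact (mul_eq_zero.1 h3).resolve_right h4
  intro j h2 hj
  have hcomm : ∀ z, rename some (univDer₀ p z) = δ (rename some z) := by
    intro z
    induction z using MvPolynomial.induction_on with
    | C a =>
      have := (univDer₀ p).map_algebraMap a
      have := δ.map_algebraMap a
      simp_all [MvPolynomial.algebraMap_eq]
    | add f g hf hg => simp [map_add, hf, hg]
    | mul_X f n hf =>
      have e1 : univDer₀ p (X n) = X (n + 1) := mkDerivation_X _ _ _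
      have e2 : δ (X (some n)) = X (some (n + 1)) := mkDerivation_X _ _ _
      simp [Derivation.leibniz, hf, e1, e2]
  refine (rename_injective (some : ℕ → Option ℕ) (Option.some_injective _)) ?_
  rw [map_zero]
  have := coef_map (rename some).toRingHom (univDer₀ p) δ hcomm (X 0) p j
  simp only [AlgHom.toRingHom_eq_coe, RingHom.coe_coe, rename_X] at this
  rw [this]
  exact main j h2 hj

theorem coef_prime (p : ℕ) [hp : Fact p.Prime] [CharP B p] {j : ℕ} (h2 : 2 ≤ j) (hj : j < p) :
    coef δ b p j = 0 := by
  let f : MvPolynomial ℕ (ZMod p) →+* B := eval₂Hom (ZMod.castHom (dvd_refl p) B) fun i => (⇑δ)^[i] b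
  have hcomm : ∀ z, f (univDer₀ p z) = δ (f z) := by
    intro z
    induction z using MvPolynomial.induction_on with
    | C a =>
      obtain ⟨n, rfl⟩ : ∃ n : ℕ, (n : ZMod p) = a := ⟨a.val, ZMod.natCast_zmod_val a⟩
      have : (C (n : ZMod p) : MvPolynomial ℕ (ZMod p)) = n := map_natCast C n
      rw [this, Derivation.map_natCast, map_natCast, Derivation.map_natCast, map_zero]
    | add g h hg hh => simp [map_add, hg, hh]
    | mul_X g n hg =>
      rw [Derivation.leibniz, map_mul f, Derivation.leibniz]
      have e1 : univDer₀ p (X n) = X (n + 1) := mkDerivation_X _ _ _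
      simp only [smul_eq_mul, map_add, map_mul, hg, e1]
      simp [f, Function.iterate_succ_apply']
  have := coef_map f (univDer₀ p) δ hcomm (X 0) p j
  rw [coef_univ p j h2 hj, map_zero] at this
  simpa [f] using this.symm

/-- Hochschild: `(bD)^p = b^p D^p + c D` with `c` independent of `D`. -/
theorem iterate_smul_prime (p : ℕ) [hp : Fact p.Prime] [CharP B p] {D : M → M} (h : Semi (⇑δ) D) (m : M) :
    (fun x => b • D x)^[p] m = b ^ p • D^[p] m + coef δ b p 1 • D m := by
  have h2 := hp.out.two_le
  rw [iterate_eq_sum δ b h, ← Finset.sum_subset (s₁ := ({p, 1} : Finset ℕ)) (by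
    intro k; simp only [mem_insert, mem_singleton, mem_range]; omega) (by
    intro k hk hk'
    simp only [mem_insert, mem_singleton, not_or, mem_range] at hk hk'
    rcases k with _ | k
    · obtain ⟨q, hq⟩ : ∃ q, p = q + 1 := ⟨p - 1, by omega⟩
      rw [hq, coef_succ_zero, zero_smul]
    · rw [coef_prime δ b p (by omega) (by omega), zero_smul]), Finset.sum_pair (by omega), coef_self]
  rfl

end Groth.Agent.Hochschild5
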